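import Mathlib.AlgebraicGeometry.ProjectiveSpectrum.Basic
import Mathlib.AlgebraicGeometry.ProjectiveSpectrum.Functor

/-! Morphisms between `Proj`s given on a chart. -/

noncomputable section

universe u

open CategoryTheory AlgebraicGeometry HomogeneousLocalization

namespace Groth.Agent.ProjQuot

variable {A B : Type u} {σ τ : Type u} [CommRing A] [SetLike σ A] [AddSubgroupClass σ A]
  {𝒜 : ℕ → σ} [GradedRing 𝒜] [CommRing B] [SetLike τ B] [AddSubgroupClass τ B]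
  {ℬ : ℕ → τ} [GradedRing ℬ]

lemma awayι_le_preimage {f : A} {n : ℕ} (hf : f ∈ 𝒜 n) (hn : 0 < n) :
    ⊤ ≤ Proj.awayι 𝒜 f hf hn ⁻¹ᵁ Proj.basicOpen 𝒜 f := by
  rintro x -
  change Proj.awayι 𝒜 f hf hn x ∈ Proj.basicOpen 𝒜 f
  rw [← Proj.opensRange_awayι 𝒜 f hf hn]
  exact ⟨x, rfl⟩

lemma awayι_appLE_awayToSection {f : A} {n : ℕ} (hf : f ∈ 𝒜 n) (hn : 0 < n) :
    Proj.awayToSection 𝒜 f ≫ (Proj.awayι 𝒜 f hf hn).appLE (Proj.basicOpen 𝒜 f) ⊤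
      (awayι_le_preimage hf hn) = (Scheme.ΓSpecIso _).inv := by
  let e := Proj.basicOpenIsoSpec 𝒜 f hf hn
  have he : e.hom.appTop = (Scheme.ΓSpecIso _).hom ≫ Proj.awayToSection 𝒜 f ≫
      (Proj.basicOpen 𝒜 f).topIso.inv := by
    have := Proj.basicOpenToSpec_app_top 𝒜 f
    rwa [← Proj.basicOpenIsoSpec_hom 𝒜 f hf hn] at this
  have hcomp : (Proj.awayι 𝒜 f hf hn).appLE (Proj.basicOpen 𝒜 f) ⊤ (awayι_le_preimage hf hn) =
      (Proj.basicOpen 𝒜 f).topIso.inv ≫ e.inv.appTop := by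
    have h1 : ⊤ ≤ (Proj.basicOpen 𝒜 f).ι ⁻¹ᵁ Proj.basicOpen 𝒜 f := by simp
    have h2 : ⊤ ≤ e.inv ⁻¹ᵁ (⊤ : (Proj.basicOpen 𝒜 f).toScheme.Opens) := by simp
    have := Scheme.Hom.appLE_comp_appLE e.inv (Proj.basicOpen 𝒜 f).ι (Proj.basicOpen 𝒜 f) ⊤ ⊤ h1 h2
    refine this.symm.trans ?_
    congr 1
  have hinv : e.hom.appTop ≫ e.inv.appTop = 𝟙 _ := by
    rw [← Scheme.Hom.comp_appTop, e.inv_hom_id]
    simp
  rw [hcomp, ← cancel_epi (Scheme.ΓSpecIso _).hom, ← Category.assoc (Proj.awayToSection 𝒜 f),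
    ← Category.assoc, Iso.hom_inv_id]
  exact (congrArg (· ≫ e.inv.appTop) he.symm).trans hinv

variable (F : Proj ℬ ⟶ Proj 𝒜) {c : A} {n : ℕ} (hc : c ∈ 𝒜 n) (hn : 0 < n) {d : B} {m : ℕ}
  (hd : d ∈ ℬ m) (hm : 0 < m) (φ : CommRingCat.of (Away 𝒜 c) ⟶ CommRingCat.of (Away ℬ d))
  (h : Proj.awayι ℬ d hd hm ≫ F = Spec.map φ ≫ Proj.awayι 𝒜 c hc hn)

include hm h in
lemma chart_le : Proj.basicOpen ℬ d ≤ F ⁻¹ᵁ Proj.basicOpen 𝒜 c := by
  rw [← Proj.opensRange_awayι ℬ d hd hm]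
  rintro _ ⟨x, rfl⟩
  change F (Proj.awayι ℬ d hd hm x) ∈ Proj.basicOpen 𝒜 c
  rw [← Scheme.Hom.comp_apply, h, ← Proj.opensRange_awayι 𝒜 c hc hn, Scheme.Hom.comp_apply]
  exact ⟨_, rfl⟩

include hm h in
lemma chart_appLE :
    Proj.awayToSection 𝒜 c ≫ F.appLE (Proj.basicOpen 𝒜 c) (Proj.basicOpen ℬ d)
      (chart_le F hc hn hd hm φ h) = φ ≫ Proj.awayToSection ℬ d := by
  have : Epi (Scheme.ΓSpecIso (CommRingCat.of (Away ℬ d))).inv := inferInstance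
  have hmono : Mono ((Proj.awayι ℬ d hd hm).appLE (Proj.basicOpen ℬ d) ⊤ (awayι_le_preimage hd hm)) := by
    have hats : IsIso (Proj.awayToSection ℬ d) := by
      rw [← Proj.basicOpenIsoAway_hom ℬ d hd hm]
      infer_instance
    have := awayι_appLE_awayToSection (𝒜 := ℬ) hd hm
    rw [← IsIso.eq_inv_comp] at this
    rw [this]
    infer_instance
  rw [← cancel_mono ((Proj.awayι ℬ d hd hm).appLE (Proj.basicOpen ℬ d) ⊤ (awayι_le_preimage hd hm)),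
    Category.assoc, Category.assoc, awayι_appLE_awayToSection, Scheme.Hom.appLE_comp_appLE]
  have h' : ⊤ ≤ (Spec.map φ ≫ Proj.awayι 𝒜 c hc hn) ⁻¹ᵁ Proj.basicOpen 𝒜 c := by
    rw [Scheme.Hom.comp_preimage]
    exact le_trans (by simp) (Scheme.Hom.preimage_mono _ (awayι_le_preimage hc hn))
  rw [show (Proj.awayι ℬ d hd hm ≫ F).appLE (Proj.basicOpen 𝒜 c) ⊤ _ =
      (Spec.map φ ≫ Proj.awayι 𝒜 c hc hn).appLE (Proj.basicOpen 𝒜 c) ⊤ h' by simp only [h],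
    ← Scheme.Hom.appLE_comp_appLE (Spec.map φ) (Proj.awayι 𝒜 c hc hn) (Proj.basicOpen 𝒜 c) ⊤ ⊤
      (awayι_le_preimage hc hn) (by simp),
    ← Category.assoc, awayι_appLE_awayToSection]
  simp [Scheme.Hom.appLE]

include hm h in
/-- The preimage of another basic open, inside the chart. -/
lemma chart_preimage {c' : A} {n' : ℕ} (hc' : c' ∈ 𝒜 n') (hn' : 0 < n') {d' : B} {m' : ℕ}
    (hd' : d' ∈ ℬ m') (hm' : 0 < m')
    (hφ : (φ (Away.isLocalizationElem hc hc')) = Away.isLocalizationElem hd hd') :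
    Proj.awayι ℬ d hd hm ⁻¹ᵁ (F ⁻¹ᵁ Proj.basicOpen 𝒜 c') =
      Proj.awayι ℬ d hd hm ⁻¹ᵁ Proj.basicOpen ℬ d' := by
  rw [← Scheme.Hom.comp_preimage, h, Scheme.Hom.comp_preimage,
    Proj.awayι_preimage_basicOpen _ _ _ hc' hn', Proj.awayι_preimage_basicOpen _ _ _ hd' hm', ← hφ]
  rfl

end Groth.Agent.ProjQuot
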