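import Groth.Prelude.Def_SGA1
import Mathlib.Topology.Sheaves.SheafCondition.UniqueGluing

/-! Quotients by groups can be checked on a basis stable under intersection. -/

noncomputable section

universe u

open CategoryTheory AlgebraicGeometry TopologicalSpace Opposite

namespace Groth.Agent.ProjQuot

variable {X Y : Scheme.{u}} {G : Type u} [Group G] {ρ : G →* Aut X} {p : X ⟶ Y}

lemma app_restrict (f : X ⟶ Y) {U V : Y.Opens} (h : V ≤ U) (s : Γ(Y, U)) :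
    (f.app V).hom ((Y.presheaf.map (homOfLE h).op).hom s) =
      (X.presheaf.map (homOfLE (Scheme.Hom.preimage_mono f h)).op).hom ((f.app U).hom s) := by
  rw [← CommRingCat.comp_apply, ← CommRingCat.comp_apply]
  congr 2
  exact f.naturality (homOfLE h).op

lemma appLE_restrict (f : X ⟶ X) {U V : X.Opens} (hU : U ≤ f ⁻¹ᵁ U) (hV : V ≤ f ⁻¹ᵁ V) (h : V ≤ U)
    (s : Γ(X, U)) :
    (f.appLE V V hV).hom ((X.presheaf.map (homOfLE h).op).hom s) =
      (X.presheaf.map (homOfLE h).op).hom ((f.appLE U U hU).hom s) := by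
  rw [← CommRingCat.comp_apply, ← CommRingCat.comp_apply, Scheme.Hom.map_appLE, Scheme.Hom.appLE_map]

variable (𝔅 : Set Y.Opens) (hB : Opens.IsBasis 𝔅) (hinf : ∀ U ∈ 𝔅, ∀ V ∈ 𝔅, U ⊓ V ∈ 𝔅)

include hB in
lemma eq_iSup (U : Y.Opens) : U = ⨆ V : {V // V ∈ 𝔅 ∧ V ≤ U}, V.1 := by
  refine le_antisymm (fun x hx => ?_) (iSup_le fun V => V.2.2)
  obtain ⟨V, hV, hxV, hVU⟩ := Opens.isBasis_iff_nbhd.1 hB hx
  exact Opens.mem_iSup.2 ⟨⟨V, hV, hVU⟩, hxV⟩

include hB hinf in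
/-- **Checking a quotient on a basis.** -/
theorem isQuot_of_basis (haff : IsAffineHom p) (hinv : ∀ g : G, (ρ g).hom ≫ p = p)
    (hinj : ∀ U ∈ 𝔅, Function.Injective (p.app U).hom)
    (hsurj : ∀ U ∈ 𝔅, ∀ s : Γ(X, p ⁻¹ᵁ U),
      (∀ g : G, ((ρ g).hom.appLE (p ⁻¹ᵁ U) (p ⁻¹ᵁ U) (SGA1.preimage_le_of_inv ρ p hinv g U)).hom s = s) →
        s ∈ Set.range (p.app U).hom) :
    SGA1.IsQuot ρ p := by
  have hinj' : ∀ U : Y.Opens, Function.Injective (p.app U).hom := by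
    intro U s t hst
    have e := eq_iSup 𝔅 hB U
    refine (TopCat.Sheaf.eq_of_locally_eq' Y.sheaf (fun V : {V // V ∈ 𝔅 ∧ V ≤ U} => V.1) U
      (fun V => homOfLE V.2.2) e.le s t fun V => ?_)
    apply hinj V.1 V.2.1
    exact (app_restrict p V.2.2 s).trans ((congrArg _ hst).trans (app_restrict p V.2.2 t).symm)
  refine ⟨haff, hinv, hinj', fun U s => ⟨?_, fun hs => ?_⟩⟩
  · rintro ⟨t, rfl⟩ g
    show (p.app U ≫ (ρ g).hom.appLE (p ⁻¹ᵁ U) (p ⁻¹ᵁ U) _).hom t = _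
    rw [Scheme.Hom.app_eq_appLE, Scheme.Hom.appLE_comp_appLE]
    simp only [hinv g]
  · have e := eq_iSup 𝔅 hB U
    have hloc : ∀ V : {V // V ∈ 𝔅 ∧ V ≤ U}, ∃ t : Γ(Y, V.1), (p.app V.1).hom t =
        (X.presheaf.map (homOfLE (Scheme.Hom.preimage_mono p V.2.2)).op).hom s := fun V =>
      hsurj V.1 V.2.1 _ fun g => by
        rw [appLE_restrict (ρ g).hom (SGA1.preimage_le_of_inv ρ p hinv g U), hs g]
    choose t ht using hloc
    have hcompat : TopCat.Presheaf.IsCompatible Y.sheaf.1 (fun V : {V // V ∈ 𝔅 ∧ V ≤ U} => V.1) t := by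
      intro V W
      apply hinj _ (hinf _ V.2.1 _ W.2.1)
      refine (app_restrict p inf_le_left (t V)).trans (Eq.trans ?_ (app_restrict p inf_le_right (t W)).symm)
      rw [ht V, ht W, ← CommRingCat.comp_apply, ← CommRingCat.comp_apply, ← Functor.map_comp,
        ← Functor.map_comp]
      rfl
    obtain ⟨t₀, ht₀, -⟩ := TopCat.Sheaf.existsUnique_gluing' Y.sheaf
      (fun V : {V // V ∈ 𝔅 ∧ V ≤ U} => V.1) U (fun V => homOfLE V.2.2) e.le t hcompat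
    refine ⟨t₀, ?_⟩
    refine TopCat.Sheaf.eq_of_locally_eq' X.sheaf (fun V : {V // V ∈ 𝔅 ∧ V ≤ U} => p ⁻¹ᵁ V.1)
      (p ⁻¹ᵁ U) (fun V => homOfLE (Scheme.Hom.preimage_mono p V.2.2)) ?_ _ _ fun V => ?_
    · intro x hx
      obtain ⟨V, hV⟩ := Opens.mem_iSup.1 (e.le (show p x ∈ U from hx))
      exact Opens.mem_iSup.2 ⟨V, hV⟩
    · exact (app_restrict p V.2.2 t₀).symm.trans ((congrArg _ (ht₀ V)).trans (ht V))

end Groth.Agent.ProjQuot
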