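import Mathlib.RingTheory.GradedAlgebra.HomogeneousLocalization
import Mathlib.RingTheory.GradedAlgebra.Homogeneous.Ideal
import Mathlib.Algebra.BigOperators.Ring.Finset
import Mathlib.Algebra.BigOperators.Group.Finset.Powerset
import Mathlib.Algebra.Ring.Action.Group

/-! Invariants of a finite group acting on a graded ring. -/

noncomputable section

universe u

open HomogeneousLocalization Pointwise

namespace Groth.Agent.ProjQuot

variable {A : Type u} [CommRing A] {G : Type u} [Group G] [Fintype G] [MulSemiringAction G A]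

open Classical in
/-- The coefficient of degree `j` of `∏ (T - σ f)`. -/
def coef (f : A) (j : ℕ) : A :=
  ∑ t ∈ (Finset.univ : Finset G).powersetCard j, ∏ σ ∈ t, (-(σ • f))

lemma smul_coef (τ : G) (f : A) (j : ℕ) : τ • coef (G := G) f j = coef (G := G) f j := by
  classical
  rw [coef, Finset.smul_sum]
  refine Finset.sum_nbij' (fun t => t.image (τ * ·)) (fun t => t.image (τ⁻¹ * ·)) ?_ ?_ ?_ ?_ ?_
  · intro t ht
    simp only [Finset.mem_coe, Finset.mem_powersetCard] at ht ⊢
    exact ⟨Finset.subset_univ _, by rw [Finset.card_image_of_injective _ (mul_right_injective τ)]; exact ht.2⟩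
  · intro t ht
    simp only [Finset.mem_coe, Finset.mem_powersetCard] at ht ⊢
    exact ⟨Finset.subset_univ _, by rw [Finset.card_image_of_injective _ (mul_right_injective τ⁻¹)]; exact ht.2⟩
  · intro t _
    rw [Finset.image_image]
    convert Finset.image_id (s := t)
    funext x
    simp
  · intro t _
    rw [Finset.image_image]
    convert Finset.image_id (s := t)
    funext x
    simp
  · intro t _
    rw [Finset.prod_image (mul_right_injective τ).injOn, Finset.smul_prod']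
    simp [smul_neg, mul_smul]

lemma sum_coef_mul_pow (f : A) :
    ∑ j ∈ Finset.range (Fintype.card G + 1), coef (G := G) f j * f ^ (Fintype.card G - j) = 0 := by
  classical
  have h1 : ∏ σ : G, (-(σ • f) + f) = 0 :=
    Finset.prod_eq_zero (Finset.mem_univ (1 : G)) (by simp)
  rw [Finset.prod_add, Finset.sum_powerset] at h1
  rw [← h1]
  refine Finset.sum_congr (by simp) fun j _ => ?_
  rw [coef, Finset.sum_mul]
  refine Finset.sum_congr rfl fun t ht => ?_
  rw [Finset.prod_const, Finset.card_univ_diff, (Finset.mem_powersetCard.1 ht).2]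

variable {σ' : Type*} [SetLike σ' A] [AddSubgroupClass σ' A] (𝒜 : ℕ → σ') [GradedRing 𝒜]

lemma coef_mem (hdeg : ∀ (σ : G) (i : ℕ) (a : A), a ∈ 𝒜 i → σ • a ∈ 𝒜 i) {f : A} {i : ℕ}
    (hf : f ∈ 𝒜 i) (j : ℕ) : coef (G := G) f j ∈ 𝒜 (j * i) := by
  classical
  refine sum_mem fun t ht => ?_
  have : ∏ σ ∈ t, (-(σ • f)) ∈ 𝒜 (∑ σ ∈ t, i) :=
    SetLike.prod_mem_graded (A := 𝒜) (fun _ => i) _ fun σ _ => neg_mem (hdeg σ i f hf)
  rwa [Finset.sum_const, smul_eq_mul, (Finset.mem_powersetCard.1 ht).2] at this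

/-- A prime containing all invariant homogeneous elements of positive degree is irrelevant. -/
lemma mem_of_invariants_mem (hdeg : ∀ (σ : G) (i : ℕ) (a : A), a ∈ 𝒜 i → σ • a ∈ 𝒜 i) {P : Ideal A}
    [P.IsPrime] (h : ∀ (i : ℕ) (a : A), 0 < i → a ∈ 𝒜 i → (∀ σ : G, σ • a = a) → a ∈ P)
    {f : A} {i : ℕ} (hi : 0 < i) (hf : f ∈ 𝒜 i) : f ∈ P := by
  have h0 := sum_coef_mul_pow (G := G) f
  rw [← Finset.insert_erase (Finset.mem_range.2 (Nat.succ_pos (Fintype.card G))),
    Finset.sum_insert (Finset.notMem_erase _ _)] at h0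
  have hrest : ∑ j ∈ (Finset.range (Fintype.card G + 1)).erase 0,
      coef (G := G) f j * f ^ (Fintype.card G - j) ∈ P := by
    refine Ideal.sum_mem _ fun j hj => P.mul_mem_right _ ?_
    exact h (j * i) _ (Nat.mul_pos (Nat.pos_of_ne_zero (Finset.ne_of_mem_erase hj)) hi)
      (coef_mem 𝒜 hdeg hf j) fun τ => smul_coef τ f j
  have : coef (G := G) f 0 * f ^ (Fintype.card G - 0) ∈ P := by
    rw [eq_neg_of_add_eq_zero_left h0]
    exact neg_mem hrest
  have hc : coef (G := G) f 0 = 1 := by simp [coef]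
  rw [hc, one_mul] at this
  exact Ideal.IsPrime.mem_of_pow_mem inferInstance _ this

/-- An invariant fraction is a fraction of invariants. -/
lemma exists_invariant_rep (hdeg : ∀ (σ : G) (i : ℕ) (a : A), a ∈ 𝒜 i → σ • a ∈ 𝒜 i) {f : A} {n : ℕ}
    (hf : f ∈ 𝒜 n) (k : ℕ) {a : A} (ha : a ∈ 𝒜 (k • n))
    (h : ∀ σ : G, Away.mk 𝒜 hf k (σ • a) (hdeg σ _ a ha) = Away.mk 𝒜 hf k a ha) :
    ∃ (k' : ℕ) (b : A) (hb : b ∈ 𝒜 (k' • n)), (∀ σ : G, σ • f = f → σ • b = b) ∧
      Away.mk 𝒜 hf k' b hb = Away.mk 𝒜 hf k a ha := by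
  have key : ∀ σ : G, ∃ m : ℕ, f ^ m * (σ • a) = f ^ m * a := by
    intro σ
    have hv := congrArg HomogeneousLocalization.val (h σ)
    rw [Away.val_mk, Away.val_mk, Localization.mk_eq_mk_iff, Localization.r_iff_exists] at hv
    obtain ⟨⟨_, m, rfl⟩, hm⟩ := hv
    refine ⟨m + k, ?_⟩
    simp only at hm
    calc f ^ (m + k) * (σ • a) = f ^ m * (f ^ k * (σ • a)) := by ring
      _ = f ^ m * (f ^ k * a) := hm
      _ = f ^ (m + k) * a := by ring
  choose m hm using key
  obtain ⟨M, hM⟩ : ∃ M, ∀ σ, m σ ≤ M := ⟨∑ σ, m σ, fun σ =>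
    Finset.single_le_sum (f := m) (fun _ _ => Nat.zero_le _) (Finset.mem_univ σ)⟩
  refine ⟨M + k, f ^ M * a, ?_, fun σ hσ => ?_, ?_⟩
  · rw [add_smul]
    exact SetLike.mul_mem_graded (SetLike.pow_mem_graded M hf) ha
  · rw [smul_mul', smul_pow', hσ]
    conv_lhs => rw [← Nat.sub_add_cancel (hM σ), pow_add, mul_assoc, hm σ, ← mul_assoc, ← pow_add,
      Nat.sub_add_cancel (hM σ)]
  · ext
    rw [Away.val_mk, Away.val_mk, Localization.mk_eq_mk_iff, Localization.r_iff_exists]
    refine ⟨1, ?_⟩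
    simp only [OneMemClass.coe_one, one_mul]
    ring

end Groth.Agent.ProjQuot
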