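import Groth.Agent.ProjQuotLib.Chart
import Groth.Agent.ProjQuotLib.Basis
import Groth.Agent.ProjQuotLib.Invariants
import Mathlib.AlgebraicGeometry.Morphisms.Affine

/-! `Proj` of the ring of invariants is the quotient of `Proj`. -/

noncomputable section

universe u

open CategoryTheory AlgebraicGeometry HomogeneousLocalization TopologicalSpace

namespace Groth.Agent.ProjQuot

section General

variable {R A : Type u} [CommRing R] [CommRing A] [Algebra R A] (𝒜 : ℕ → Submodule R A) [GradedAlgebra 𝒜]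

lemma not_forall_pos_mem (x : Proj 𝒜) :
    ∃ (n : ℕ) (f : A), 0 < n ∧ f ∈ 𝒜 n ∧ x ∈ Proj.basicOpen 𝒜 f := by
  by_contra! H
  refine x.not_irrelevant_le fun z hz => ?_
  classical
  rw [← DirectSum.sum_support_decompose 𝒜 z]
  refine Ideal.sum_mem _ fun i _ => ?_
  rcases Nat.eq_zero_or_pos i with rfl | hi
  · convert Ideal.zero_mem _
    exact hz
  · have := H i (DirectSum.decompose 𝒜 z i : A) hi (SetLike.coe_mem _)
    rw [Proj.mem_basicOpen, not_not] at this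
    exact this

lemma isBasis_pos :
    Opens.IsBasis {U : (Proj 𝒜).Opens | ∃ (n : ℕ) (f : A), 0 < n ∧ f ∈ 𝒜 n ∧ U = Proj.basicOpen 𝒜 f} := by
  refine Opens.isBasis_iff_nbhd.2 fun {U x} hx => ?_
  obtain ⟨_, ⟨g, rfl⟩, hxg, hgU⟩ := Opens.isBasis_iff_nbhd.1 (Proj.isBasis_basicOpen 𝒜) hx
  rw [Proj.basicOpen_eq_iSup_proj] at hxg hgU
  obtain ⟨i, hi⟩ := Opens.mem_iSup.1 hxg
  obtain ⟨n, f, hn, hf, hxf⟩ := not_forall_pos_mem 𝒜 x
  refine ⟨_, ⟨i + n, GradedRing.proj 𝒜 i g * f, by omega,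
    SetLike.mul_mem_graded (SetLike.coe_mem _) hf, rfl⟩, ?_, ?_⟩
  · rw [Proj.basicOpen_mul]
    exact ⟨hi, hxf⟩
  · exact (Proj.basicOpen_mono 𝒜 _ _ ⟨f, rfl⟩).trans ((le_iSup _ i).trans hgU)

lemma awayToSection_bijective {f : A} {n : ℕ} (hf : f ∈ 𝒜 n) (hn : 0 < n) :
    Function.Bijective (Proj.awayToSection 𝒜 f).hom := by
  have : IsIso (Proj.awayToSection 𝒜 f) := by
    rw [← Proj.basicOpenIsoAway_hom 𝒜 f hf hn]
    infer_instance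
  exact ConcreteCategory.bijective_of_isIso (Proj.awayToSection 𝒜 f)

end General

section Quot

variable {R A : Type u} [CommRing R] [CommRing A] [Algebra R A] {𝒜 : ℕ → Submodule R A} [GradedAlgebra 𝒜]
  {G : Type u} [Group G] [MulSemiringAction G A]
  (hGdeg : ∀ (σ : G) (i : ℕ) (a : A), a ∈ 𝒜 i → σ • a ∈ 𝒜 i)

/-- The action of `σ` as a graded ring homomorphism. -/
def gradedAct (σ : G) : 𝒜 →+*ᵍ 𝒜 where
  __ := MulSemiringAction.toRingHom G A σ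
  map_mem := fun {i x} hx => hGdeg σ i x hx

lemma map_compat {B : Type u} [CommRing B] [Algebra R B] {ℬ : ℕ → Submodule R B} [GradedAlgebra ℬ]
    (g : 𝒜 →+*ᵍ ℬ) {f : A} {n : ℕ} (hf : f ∈ 𝒜 n) :
    (algebraMap (Away ℬ (g f)) (Localization.Away (g f))).comp (Away.map g f) =
      (Localization.awayMap g.toRingHom f).comp (algebraMap (Away 𝒜 f) (Localization.Away f)) := by
  refine RingHom.ext fun x => ?_
  obtain ⟨k, a, ha, rfl⟩ := Away.mk_surjective 𝒜 hf x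
  simp only [RingHom.coe_comp, Function.comp_apply, HomogeneousLocalization.algebraMap_apply,
    Away.map_mk, Away.val_mk]
  simp [Localization.mk_eq_mk', Localization.awayMap, IsLocalization.Away.map, IsLocalization.map_mk']

variable (ρ : G →* Aut (Proj 𝒜))
  (hρ : ∀ (σ : G) (n : ℕ) (f : A) (hn : 0 < n) (hf : f ∈ 𝒜 n)
    (θ : CommRingCat.of (Away 𝒜 f) ⟶ CommRingCat.of (Away 𝒜 (σ • f))),
    (algebraMap (Away 𝒜 (σ • f)) (Localization.Away (σ • f))).comp θ.hom =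
      (Localization.awayMap (MulSemiringAction.toRingHom G A σ) f).comp
        (algebraMap (Away 𝒜 f) (Localization.Away f)) →
    Proj.awayι 𝒜 (σ • f) (hGdeg σ n f hf) hn ≫ (ρ σ).inv = Spec.map θ ≫ Proj.awayι 𝒜 f hf hn)

include hρ in
lemma exists_chart (σ : G) {n : ℕ} {f : A} (hn : 0 < n) (hf : f ∈ 𝒜 n) (hσ : σ • f = f) :
    ∃ θ : CommRingCat.of (Away 𝒜 f) ⟶ CommRingCat.of (Away 𝒜 f),
      (∀ (k : ℕ) (a : A) (ha : a ∈ 𝒜 (k • n)),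
        θ (Away.mk 𝒜 hf k a ha) = Away.mk 𝒜 hf k (σ • a) (hGdeg σ _ a ha)) ∧
      Proj.awayι 𝒜 f hf hn ≫ (ρ σ⁻¹).hom = Spec.map θ ≫ Proj.awayι 𝒜 f hf hn := by
  suffices key : ∀ (f' : A) (hf' : f' ∈ 𝒜 n), σ • f = f' →
      ∃ θ : CommRingCat.of (Away 𝒜 f) ⟶ CommRingCat.of (Away 𝒜 f'),
      (∀ (k : ℕ) (a : A) (ha : a ∈ 𝒜 (k • n)),
        θ (Away.mk 𝒜 hf k a ha) = Away.mk 𝒜 hf' k (σ • a) (hGdeg σ _ a ha)) ∧
      Proj.awayι 𝒜 f' hf' hn ≫ (ρ σ).inv = Spec.map θ ≫ Proj.awayι 𝒜 f hf hn by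
    have e : (ρ σ⁻¹).hom = (ρ σ).inv := by rw [map_inv]; rfl
    rw [e]
    exact key f hf hσ
  rintro f' hf' rfl
  exact ⟨CommRingCat.ofHom (Away.map (gradedAct hGdeg σ) f),
    fun k a ha => Away.map_mk (gradedAct hGdeg σ) f hf k a ha,
    hρ σ n f hn hf _ (map_compat (gradedAct hGdeg σ) hf)⟩

variable {C : Type u} [CommRing C] [Algebra R C] {𝒞 : ℕ → Submodule R C} [GradedAlgebra 𝒞]
  (ι : C →ₐ[R] A) (hι : Function.Injective ι)
  (hιdeg : ∀ (i : ℕ) (a : A), a ∈ (𝒞 i).map ι.toLinearMap ↔ (a ∈ 𝒜 i ∧ ∀ σ : G, σ • a = a))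

include hιdeg in
lemma ι_mem {i : ℕ} {c : C} (hc : c ∈ 𝒞 i) : ι c ∈ 𝒜 i :=
  ((hιdeg i (ι c)).1 (Submodule.mem_map_of_mem hc)).1

include hιdeg in
lemma ι_smul {i : ℕ} {c : C} (hc : c ∈ 𝒞 i) (σ : G) : σ • ι c = ι c :=
  ((hιdeg i (ι c)).1 (Submodule.mem_map_of_mem hc)).2 σ

/-- `ι` as a graded ring homomorphism. -/
def gradedι : 𝒞 →+*ᵍ 𝒜 where
  __ := ι.toRingHom
  map_mem := fun {_ _} hx => ι_mem ι hιdeg hx

/-- The chart of `π`. -/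
def chartMap (c : C) : CommRingCat.of (Away 𝒞 c) ⟶ CommRingCat.of (Away 𝒜 (ι c)) :=
  CommRingCat.ofHom (Away.map (gradedι ι hιdeg) c)

lemma chartMap_mk {c : C} {n : ℕ} (hc : c ∈ 𝒞 n) (k : ℕ) (a : C) (ha : a ∈ 𝒞 (k • n)) :
    chartMap ι hιdeg c (Away.mk 𝒞 hc k a ha) =
      Away.mk 𝒜 (ι_mem ι hιdeg hc) k (ι a) (ι_mem ι hιdeg ha) :=
  Away.map_mk (gradedι ι hιdeg) c hc k a ha

include hι in
lemma chartMap_injective {c : C} {n : ℕ} (hc : c ∈ 𝒞 n) :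
    Function.Injective (chartMap ι hιdeg c).hom := by
  intro x y hxy
  have h : Function.Injective (Localization.awayMap ι.toRingHom c) :=
    Localization.awayMap_injective_iff.2 fun a ha => ⟨0, by
      rw [pow_zero, one_mul]; exact hι (ha.trans (map_zero ι).symm)⟩
  refine HomogeneousLocalization.val_injective _ (h ?_)
  have e := RingHom.congr_fun (map_compat (gradedι ι hιdeg) hc)
  exact (e x).symm.trans ((congrArg HomogeneousLocalization.val hxy).trans (e y))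

variable (π : Proj 𝒜 ⟶ Proj 𝒞)
  (hπ : ∀ (n : ℕ) (c : C) (hn : 0 < n) (hc : c ∈ 𝒞 n)
    (θ : CommRingCat.of (Away 𝒞 c) ⟶ CommRingCat.of (Away 𝒜 (ι c))),
    (algebraMap (Away 𝒜 (ι c)) (Localization.Away (ι c))).comp θ.hom =
      (Localization.awayMap ι.toRingHom c).comp (algebraMap (Away 𝒞 c) (Localization.Away c)) →
    Proj.awayι 𝒜 (ι c) ((hιdeg n (ι c)).mp (Submodule.mem_map_of_mem hc)).1 hn ≫ π =
      Spec.map θ ≫ Proj.awayι 𝒞 c hc hn)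

include hπ in
lemma chart_eq {c : C} {n : ℕ} (hc : c ∈ 𝒞 n) (hn : 0 < n) :
    Proj.awayι 𝒜 (ι c) (ι_mem ι hιdeg hc) hn ≫ π =
      Spec.map (chartMap ι hιdeg c) ≫ Proj.awayι 𝒞 c hc hn :=
  hπ n c hn hc _ (map_compat (gradedι ι hιdeg) hc)

variable [Fintype G]

include hGdeg hιdeg in
lemma exists_invariant_mem (x : Proj 𝒜) :
    ∃ (n : ℕ) (c : C), 0 < n ∧ c ∈ 𝒞 n ∧ x ∈ Proj.basicOpen 𝒜 (ι c) := by
  by_contra! H
  obtain ⟨n, f, hn, hf, hxf⟩ := not_forall_pos_mem 𝒜 x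
  rw [Proj.mem_basicOpen] at hxf
  have := x.isPrime
  refine hxf (mem_of_invariants_mem 𝒜 hGdeg (P := x.asHomogeneousIdeal.toIdeal)
    (fun i a hi ha hinv => ?_) hn hf)
  obtain ⟨c, hc, rfl⟩ := Submodule.mem_map.1 ((hιdeg i a).2 ⟨ha, hinv⟩)
  have := H i c hi hc
  rwa [Proj.mem_basicOpen, not_not] at this

include hGdeg hπ in
lemma preimage_basicOpen {c : C} {n : ℕ} (hc : c ∈ 𝒞 n) (hn : 0 < n) :
    π ⁻¹ᵁ Proj.basicOpen 𝒞 c = Proj.basicOpen 𝒜 (ι c) := by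
  refine le_antisymm (fun x hx => ?_)
    (chart_le π hc hn (ι_mem ι hιdeg hc) hn _ (chart_eq ι hιdeg π hπ hc hn))
  obtain ⟨n₁, c₁, hn₁, hc₁, hx₁⟩ := exists_invariant_mem hGdeg ι hιdeg x
  rw [← Proj.opensRange_awayι 𝒜 (ι c₁) (ι_mem ι hιdeg hc₁) hn₁] at hx₁
  obtain ⟨y, rfl⟩ := hx₁
  have hφ : chartMap ι hιdeg c₁ (Away.isLocalizationElem hc₁ hc) =
      Away.isLocalizationElem (ι_mem ι hιdeg hc₁) (ι_mem ι hιdeg hc) := by
    refine (chartMap_mk ι hιdeg hc₁ _ _ _).trans ?_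
    simp only [Away.isLocalizationElem, map_pow]
  have := chart_preimage π hc₁ hn₁ (ι_mem ι hιdeg hc₁) hn₁ _ (chart_eq ι hιdeg π hπ hc₁ hn₁)
    hc hn (ι_mem ι hιdeg hc) hn hφ
  exact this.le (show y ∈ _ from hx)

include hGdeg hπ in
lemma isAffineHom_π : IsAffineHom π := by
  refine isAffineHom_of_forall_exists_isAffineOpen _ fun y => ?_
  obtain ⟨n, c, hn, hc, hy⟩ := not_forall_pos_mem 𝒞 y
  refine ⟨_, hy, Proj.isAffineOpen_basicOpen 𝒞 c hc hn, ?_⟩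
  rw [preimage_basicOpen hGdeg ι hιdeg π hπ hc hn]
  exact Proj.isAffineOpen_basicOpen 𝒜 _ (ι_mem ι hιdeg hc) hn

include hρ hπ in
lemma inv_π (g : G) : (ρ g).hom ≫ π = π := by
  obtain ⟨σ, rfl⟩ : ∃ σ, σ⁻¹ = g := ⟨g⁻¹, inv_inv g⟩
  have hcov : IsOpenCover fun p : {p : ℕ × C // 0 < p.1 ∧ p.2 ∈ 𝒞 p.1} =>
      Proj.basicOpen 𝒜 (ι p.1.2) := by
    refine top_le_iff.1 fun x _ => ?_
    obtain ⟨n, c, hn, hc, hx⟩ := exists_invariant_mem hGdeg ι hιdeg x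
    exact Opens.mem_iSup.2 ⟨⟨(n, c), hn, hc⟩, hx⟩
  refine ((Proj 𝒜).openCoverOfIsOpenCover _ hcov).hom_ext _ _ ?_
  rintro ⟨⟨n, c⟩, hn, hc⟩
  show (Proj.basicOpen 𝒜 (ι c)).ι ≫ (ρ σ⁻¹).hom ≫ π = (Proj.basicOpen 𝒜 (ι c)).ι ≫ π
  obtain ⟨θ, hθ, hθι⟩ := exists_chart hGdeg ρ hρ σ hn (ι_mem ι hιdeg hc) (ι_smul ι hιdeg hc σ)
  have hcomp : chartMap ι hιdeg c ≫ θ = chartMap ι hιdeg c := by
    refine CommRingCat.hom_ext (RingHom.ext fun x => ?_)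
    obtain ⟨k, a, ha, rfl⟩ := Away.mk_surjective 𝒞 hc x
    show θ (chartMap ι hιdeg c _) = chartMap ι hιdeg c _
    rw [chartMap_mk, hθ]
    congr 1
    exact ι_smul ι hιdeg ha σ
  have hbase : Proj.awayι 𝒜 (ι c) (ι_mem ι hιdeg hc) hn ≫ (ρ σ⁻¹).hom ≫ π =
      Proj.awayι 𝒜 (ι c) (ι_mem ι hιdeg hc) hn ≫ π := by
    rw [← Category.assoc, hθι, Category.assoc, chart_eq ι hιdeg π hπ hc hn, ← Category.assoc,
      ← Spec.map_comp, hcomp]
  have hι' : (Proj.basicOpen 𝒜 (ι c)).ι =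
      (Proj.basicOpenIsoSpec 𝒜 (ι c) (ι_mem ι hιdeg hc) hn).hom ≫
        Proj.awayι 𝒜 (ι c) (ι_mem ι hιdeg hc) hn := by
    simp [Proj.awayι]
  rw [hι', Category.assoc, Category.assoc, hbase]

include hρ hι hπ in
/-- **`Proj` of the invariants is the quotient.** -/
theorem isQuot : SGA1.IsQuot ρ π := by
  have hinv := inv_π hGdeg ρ hρ ι hιdeg π hπ
  refine isQuot_of_basis _ (isBasis_pos 𝒞) ?_ (isAffineHom_π hGdeg ι hιdeg π hπ) hinv ?_ ?_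
  · rintro _ ⟨n, c, hn, hc, rfl⟩ _ ⟨m, d, hm, hd, rfl⟩
    exact ⟨n + m, c * d, by omega, SetLike.mul_mem_graded hc hd, (Proj.basicOpen_mul 𝒞 c d).symm⟩
  · rintro _ ⟨n, c, hn, hc, rfl⟩ s t hst
    have h := chart_appLE π hc hn (ι_mem ι hιdeg hc) hn _ (chart_eq ι hιdeg π hπ hc hn)
    obtain ⟨x, rfl⟩ := (awayToSection_bijective 𝒞 hc hn).2 s
    obtain ⟨y, rfl⟩ := (awayToSection_bijective 𝒞 hc hn).2 t
    congr 1
    apply chartMap_injective ι hι hιdeg hc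
    apply (awayToSection_bijective 𝒜 (ι_mem ι hιdeg hc) hn).1
    refine (RingHom.congr_fun (congrArg CommRingCat.Hom.hom h) x).symm.trans (Eq.trans ?_
      (RingHom.congr_fun (congrArg CommRingCat.Hom.hom h) y))
    exact congrArg ((Proj 𝒜).presheaf.map (homOfLE
      (chart_le π hc hn (ι_mem ι hιdeg hc) hn _ (chart_eq ι hιdeg π hπ hc hn))).op).hom hst
  · rintro _ ⟨n, c, hn, hc, rfl⟩ s hs
    have hV := preimage_basicOpen hGdeg ι hιdeg π hπ hc hn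
    have h := chart_appLE π hc hn (ι_mem ι hιdeg hc) hn _ (chart_eq ι hιdeg π hπ hc hn)
    obtain ⟨z, hz⟩ := (awayToSection_bijective 𝒜 (ι_mem ι hιdeg hc) hn).2
      (((Proj 𝒜).presheaf.map (homOfLE hV.ge).op).hom s)
    obtain ⟨k, a, ha, rfl⟩ := Away.mk_surjective 𝒜 (ι_mem ι hιdeg hc) z
    have hfix : ∀ σ : G, Away.mk 𝒜 (ι_mem ι hιdeg hc) k (σ • a) (hGdeg σ _ a ha) =
        Away.mk 𝒜 (ι_mem ι hιdeg hc) k a ha := by
      intro σ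
      obtain ⟨θ, hθ, hθι⟩ := exists_chart hGdeg ρ hρ σ hn (ι_mem ι hιdeg hc) (ι_smul ι hιdeg hc σ)
      rw [← hθ k a ha]
      apply (awayToSection_bijective 𝒜 (ι_mem ι hιdeg hc) hn).1
      have hap := chart_appLE (ρ σ⁻¹).hom (ι_mem ι hιdeg hc) hn (ι_mem ι hιdeg hc) hn θ hθι
      refine (RingHom.congr_fun (congrArg CommRingCat.Hom.hom hap) _).symm.trans ?_
      refine (congrArg ((ρ σ⁻¹).hom.appLE (Proj.basicOpen 𝒜 (ι c)) (Proj.basicOpen 𝒜 (ι c))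
        (chart_le _ (ι_mem ι hιdeg hc) hn (ι_mem ι hιdeg hc) hn θ hθι)).hom hz).trans
          (Eq.trans ?_ hz.symm)
      exact (appLE_restrict (ρ σ⁻¹).hom _ _ hV.ge s).trans (congrArg _ (hs σ⁻¹))
    obtain ⟨k', b, hb, hbinv, hbeq⟩ :=
      exists_invariant_rep 𝒜 hGdeg (ι_mem ι hιdeg hc) k ha hfix
    obtain ⟨b₀, hb₀, rfl⟩ := Submodule.mem_map.1 ((hιdeg (k' • n) b).2
      ⟨hb, fun σ => hbinv σ (ι_smul ι hιdeg hc σ)⟩)
    refine ⟨Proj.awayToSection 𝒞 c (Away.mk 𝒞 hc k' b₀ hb₀), ?_⟩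
    have hr : Function.Injective ((Proj 𝒜).presheaf.map (homOfLE hV.ge).op).hom := by
      have : IsIso (homOfLE hV.ge) := ⟨homOfLE hV.le, Subsingleton.elim _ _, Subsingleton.elim _ _⟩
      exact (ConcreteCategory.bijective_of_isIso ((Proj 𝒜).presheaf.map (homOfLE hV.ge).op)).1
    apply hr
    refine (RingHom.congr_fun (congrArg CommRingCat.Hom.hom h) _).trans ?_
    rw [← hz]
    exact congrArg (Proj.awayToSection 𝒜 (ι c)).hom ((chartMap_mk ι hιdeg hc k' b₀ hb₀).trans hbeq)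

end Quot

end Groth.Agent.ProjQuot
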